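import Mathlib

set_option autoImplicit false

/-! # S3592: `M11` is determined by its order and its numbers of elements of each order

Package statements for the abstract half: a group of order `7920` whose numbers of elements of
each order lie in `{1, 165, 440, 990, 1584, 1320, 1980, 1440}` is simple. -/

namespace Cfsg.Agent.Lib.Helper60.NseM11

universe u

/-- [FROB3] Frobenius for the prime `3`: the number of elements of order `3` is `2` modulo `3`. -/
def PkgFrob3 : Prop :=
  ∀ {G : Type u} [Group G] [Finite G], 3 ∣ Nat.card G →
    Nat.card {g : G // orderOf g = 3} % 3 = 2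

/-- [CENT] an element of order `11` centralizes every normal subgroup of order dividing `144`. -/
def PkgCent : Prop :=
  ∀ {G : Type u} [Group G] [Finite G] (N : Subgroup G), N.Normal → Nat.card N ∣ 144 →
    ∀ x : G, orderOf x = 11 → ∀ n ∈ N, x * n = n * x

/-- [SIMP] order `7920` and the numbers of elements of each order among the eight values of
`M11` force simplicity. -/
def PkgSimple : Prop :=
  ∀ {G : Type u} [Group G] [Finite G], Nat.card G = 7920 →
    (∀ n : ℕ, 0 < Nat.card {g : G // orderOf g = n} →
      Nat.card {g : G // orderOf g = n} ∈
        ({1, 165, 440, 990, 1584, 1320, 1980, 1440} : Set ℕ)) →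
    IsSimpleGroup G

end Cfsg.Agent.Lib.Helper60.NseM11
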